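import Mathlib
import Groth.Agent.Lib.Helper85.Serre.KoszulTor
import Groth.Agent.Lib.Helper10.KoszulComp

/-!
# Koszul homology computes `Tor(A/(l), -)` for Koszul-regular sequences (helper16)

helper85's `KTor` library proves `H^{-n}(K(l; M)) ≅ Tor_n(A/(l), M)` for weakly regular `l`.  The
regularity is only used for the vanishing of Koszul homology on projectives; here we prove this
vanishing for Koszul-regular `l` via `K(l; M) ≅ K(l; A) ⊗ M`.
-/

set_option autoImplicit false
universe u

namespace Groth.Agent.Lib.Helper16.KosTor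

open CategoryTheory CategoryTheory.Limits CochainComplex HomComplex CohIII MonoidalCategory
open Groth.Agent.Lib.Helper12.Koszul Groth.Agent.Lib.Helper10.KoszulFlat
open Groth.Agent.Lib.Helper17 Groth.Agent.Lib.Helper85.KTor

variable {A : Type u} [CommRing A]

/-- termwise `- ⊗ M` on complexes -/
noncomputable abbrev Tc (M : ModuleCat.{u} A) :
    CochainComplex (ModuleCat.{u} A) ℤ ⥤ CochainComplex (ModuleCat.{u} A) ℤ :=
  (tensorRight M).mapHomologicalComplex (ComplexShape.up ℤ)

lemma Tc_map_smul_id (M : ModuleCat.{u} A) (K : CochainComplex (ModuleCat.{u} A) ℤ) (a : A) :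
    (Tc M).map (a • 𝟙 K) = a • 𝟙 ((Tc M).obj K) := by
  apply HomologicalComplex.hom_ext
  intro n
  change (tensorRight M).map ((a • 𝟙 K : K ⟶ K).f n) = _
  rw [HomologicalComplex.smul_f_apply, Functor.map_smul]
  simp
  rfl

/-- `K(l; A) ⊗ M ≅ K(l; M)` -/
noncomputable def koszulTensorIso (M : ModuleCat.{u} A) : ∀ l : List A,
    ((Tc M).obj (koszulCx (ModuleCat.of A A) l) ≅ koszulCx M l)
  | [] => (HomologicalComplex.singleMapHomologicalComplex (tensorRight M)
      (ComplexShape.up ℤ) 0).app (ModuleCat.of A A) ≪≫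
      (HomologicalComplex.single (ModuleCat.{u} A) (ComplexShape.up ℤ) 0).mapIso (λ_ M)
  | f :: l =>
      mappingCone.mapHomologicalComplexIso (f • 𝟙 (koszulCx (ModuleCat.of A A) l))
        (tensorRight M) ≪≫
      coneCongr (Tc_map_smul_id M (koszulCx (ModuleCat.of A A) l) f) ≪≫
      coneIso f (koszulTensorIso M l)

/-- flat `- ⊗ M` commutes with homology. -/
noncomputable def homologyTensorIso (M : ModuleCat.{u} A) [Module.Flat A M]
    (K : CochainComplex (ModuleCat.{u} A) ℤ) (i : ℤ) :
    ((Tc M).obj K).homology i ≅ (tensorRight M).obj (K.homology i) :=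
  ShortComplex.mapHomologyIso (K.sc i) (tensorRight M)

/-- Koszul homology of a Koszul-regular sequence vanishes on flat modules in nonzero degrees. -/
theorem isZero_homology_koszulCx_of_flat (l : List A) (hl : LCI.IsKoszulRegularSeq A l)
    (M : ModuleCat.{u} A) [Module.Flat A M] (i : ℤ) (hi : i ≠ 0) :
    IsZero ((koszulCx M l).homology i) := by
  have h0 : IsZero ((koszulCx (ModuleCat.of A A) l).homology i) := by
    rw [← Groth.Agent.Lib.Helper94.koszul_eq]
    exact hl i hi
  have h1 : IsZero (((Tc M).obj (koszulCx (ModuleCat.of A A) l)).homology i) :=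
    IsZero.of_iso ((tensorRight M).map_isZero h0) (homologyTensorIso M _ i)
  exact IsZero.of_iso h1
    ((HomologicalComplex.homologyFunctor _ _ i).mapIso (koszulTensorIso M l)).symm

theorem isDeltaLite_TK (l : List A) (hl : LCI.IsKoszulRegularSeq A l) :
    IsDeltaLite (TK l) where
  les {S} hS n := by
    have h := kMap_shortExact S hS l
    have hrel : (ComplexShape.up ℤ).Rel (-((n + 1 : ℕ) : ℤ)) (-(n : ℤ)) := by
      simp only [ComplexShape.up_Rel]
      push_cast
      ring
    exact ⟨h.δ _ _ hrel, h.comp_δ _ _ hrel, h.δ_comp _ _ hrel, h.homology_exact₃ _ _ hrel,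
      h.homology_exact₁ _ _ hrel⟩
  vanish P _ n := by
    have : Module.Projective A P := (IsProjective.iff_projective P).mpr inferInstance
    have : Module.Flat A P := inferInstance
    change IsZero ((koszulCx P l).homology (-((n + 1 : ℕ) : ℤ)))
    exact isZero_homology_koszulCx_of_flat l hl P _ (by push_cast; omega)

/-- **Koszul homology of a Koszul-regular sequence computes `Tor(A/(l), -)`**. -/
theorem nonempty_iso_tor (l : List A) (hl : LCI.IsKoszulRegularSeq A l) (n : ℕ)
    (M : ModuleCat.{u} A) :
    Nonempty ((koszulCx M l).homology (-(n : ℤ)) ≅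
      ((Tor (ModuleCat.{u} A) n).obj (ModuleCat.of A (A ⧸ Ideal.ofList l))).obj M) :=
  (isDeltaLite_TK l hl).nonempty_iso
    (isDeltaLite_T' (ModuleCat.of A (A ⧸ Ideal.ofList l))) (eZero l) n M

end Groth.Agent.Lib.Helper16.KosTor
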