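import Mathlib
import Groth.Agent.Lib.Helper12.KoszulDepth

/-!
# Koszul homology when part of the sequence acts as zero on the module (helper16)

If every element of `l'` kills `M`, the homology of `K(l' ++ g; M)` is a sum of copies of the
homology of `K(g; M)`.  We prove the version needed for `Tor_i(A/I, A/J)`: if `H^i(K(g; M))` is
`A ⧸ 𝔎` for `i = 0` and `0` otherwise, then `H^{-n}(K(l' ++ g; M)) ≃ (A ⧸ 𝔎)^(|l'| choose n)`.
-/

set_option autoImplicit false
universe u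

namespace Groth.Agent.Lib.Helper16.KosTor

open CategoryTheory CategoryTheory.Limits CochainComplex HomComplex CohIII
open Groth.Agent.Lib.Helper12.Koszul Groth.Agent.Lib.Helper12.KoszulLES
  Groth.Agent.Lib.Helper12.KoszulTop Groth.Agent.Lib.Helper12.KoszulDepth

variable {A : Type u} [CommRing A]

/-- `cb r i = binom(r, -i)` for `i ≤ 0` and `0` for `i > 0`. -/
def cb (r : ℕ) (i : ℤ) : ℕ := if 0 < i then 0 else r.choose (-i).toNat

lemma cb_neg (r n : ℕ) : cb r (-(n : ℤ)) = r.choose n := by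
  unfold cb
  rw [if_neg (by omega)]
  simp

lemma cb_succ (r : ℕ) (i : ℤ) : cb (r + 1) i = cb r i + cb r (i + 1) := by
  unfold cb
  by_cases h1 : 0 < i
  · rw [if_pos h1, if_pos h1, if_pos (by omega)]
  · by_cases h2 : i = 0
    · subst h2
      simp
    · have h3 : ¬ (0 < i + 1) := by omega
      rw [if_neg h1, if_neg h1, if_neg h3]
      obtain ⟨n, rfl⟩ : ∃ n : ℕ, i = -((n + 1 : ℕ) : ℤ) := ⟨(-i).toNat - 1, by omega⟩
      have e1 : (-(-((n + 1 : ℕ) : ℤ))).toNat = n + 1 := by omega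
      have e2 : (-(-((n + 1 : ℕ) : ℤ) + 1)).toNat = n := by omega
      rw [e1, e2, Nat.choose_succ_succ, add_comm]

lemma cb_zero (i : ℤ) (hi : i ≠ 0) : cb 0 i = 0 := by
  unfold cb
  split_ifs with h
  · rfl
  · have : 0 < (-i).toNat := by omega
    exact Nat.choose_eq_zero_of_lt this

lemma cb_zero_zero : cb 0 0 = 1 := by simp [cb]

section Split

variable (𝔎 : Ideal A) {X E : Type u} [AddCommGroup X] [Module A X] [AddCommGroup E] [Module A E]

/-- a surjection onto a free `A ⧸ 𝔎`-module from a module killed by `𝔎` splits. -/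
theorem exists_section_of_killed (b : ℕ) (g : E →ₗ[A] (Fin b → A ⧸ 𝔎))
    (hg : Function.Surjective g) (hE : ∀ k ∈ 𝔎, ∀ e : E, k • e = 0) :
    ∃ s : (Fin b → A ⧸ 𝔎) →ₗ[A] E, g ∘ₗ s = LinearMap.id := by
  classical
  choose e he using fun j : Fin b => hg (Pi.single j 1)
  let σ : Fin b → ((A ⧸ 𝔎) →ₗ[A] E) := fun j =>
    Submodule.liftQ 𝔎 (LinearMap.toSpanSingleton A E (e j)) (by
      intro k hk
      rw [LinearMap.mem_ker, LinearMap.toSpanSingleton_apply]
      exact hE k hk _)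
  have hσ : ∀ (j : Fin b) (a : A), σ j (Ideal.Quotient.mk 𝔎 a) = a • e j := fun j a => rfl
  refine ⟨∑ j, (σ j) ∘ₗ (LinearMap.proj j), ?_⟩
  apply LinearMap.ext
  intro c
  rw [LinearMap.comp_apply, LinearMap.sum_apply, map_sum, LinearMap.id_apply]
  have h1 : ∀ j : Fin b, g (((σ j) ∘ₗ (LinearMap.proj j)) c) = Pi.single j (c j) := by
    intro j
    rw [LinearMap.comp_apply, LinearMap.proj_apply]
    obtain ⟨a, ha⟩ := Ideal.Quotient.mk_surjective (c j)
    rw [← ha, hσ, map_smul, he]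
    ext k
    by_cases hk : k = j
    · subst hk
      simp only [Pi.smul_apply, Pi.single_eq_same]
      change Ideal.Quotient.mk 𝔎 a * 1 = _
      rw [mul_one]
    · simp only [Pi.smul_apply, Pi.single_eq_of_ne hk, smul_zero]
  simp only [h1]
  ext k
  rw [Finset.sum_apply, Finset.sum_eq_single k]
  · simp
  · intro j _ hj
    exact Pi.single_eq_of_ne (Ne.symm hj) _
  · intro h
    exact absurd (Finset.mem_univ k) h

/-- an extension, killed by `𝔎`, of a free `A ⧸ 𝔎`-module by a free `A ⧸ 𝔎`-module is free. -/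
theorem nonempty_equiv_of_killed {Y : Type u} [AddCommGroup Y] [Module A Y] (a b : ℕ)
    (f : X →ₗ[A] E) (g : E →ₗ[A] Y) (hf : Function.Injective f)
    (hg : Function.Surjective g) (hfg : Function.Exact f g)
    (hE : ∀ k ∈ 𝔎, ∀ e : E, k • e = 0)
    (eX : X ≃ₗ[A] (Fin a → A ⧸ 𝔎)) (eY : Y ≃ₗ[A] (Fin b → A ⧸ 𝔎)) :
    Nonempty (E ≃ₗ[A] (Fin (a + b) → A ⧸ 𝔎)) := by
  let g' : E →ₗ[A] (Fin b → A ⧸ 𝔎) := eY.toLinearMap ∘ₗ g
  have hg' : Function.Surjective g' := eY.surjective.comp hg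
  have hfg' : Function.Exact f g' := by
    intro x
    rw [← hfg x]
    change eY (g x) = 0 ↔ g x = 0
    exact eY.map_eq_zero_iff
  obtain ⟨s, hs⟩ := exists_section_of_killed 𝔎 b g' hg' hE
  obtain ⟨e, -, -⟩ := hfg'.splitSurjectiveEquiv hf ⟨s, hs⟩
  exact ⟨e ≪≫ₗ LinearEquiv.prodCongr eX (LinearEquiv.refl A _) ≪≫ₗ
    (LinearEquiv.sumArrowLequivProdArrow (Fin a) (Fin b) A (A ⧸ 𝔎)).symm ≪≫ₗ
    LinearEquiv.funCongrLeft A (A ⧸ 𝔎) finSumFinEquiv.symm⟩

end Split

section Cone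

variable {K : CochainComplex (ModuleCat.{u} A) ℤ} (φ : K ⟶ K)

/-- if `φ` is zero on homology, the homology of its cone is an extension. -/
theorem cone_ses (hφ : ∀ n : ℤ, HomologicalComplex.homologyMap φ n = 0) (n : ℤ) :
    ∃ (f : K.homology n →ₗ[A] (mappingCone φ).homology n)
      (g : (mappingCone φ).homology n →ₗ[A] K.homology (n + 1)),
      Function.Injective f ∧ Function.Surjective g ∧ Function.Exact f g := by
  have h2 := cone_exact₂ φ n
  obtain ⟨δ, w₃, w₁, h3, h1⟩ := cone_exact₃₁ φ n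
  have hmono : Mono (HomologicalComplex.homologyMap (mappingCone.inr φ) n) :=
    h2.mono_g (hφ n)
  have hepi : Epi δ := h1.epi_f (hφ (n + 1))
  refine ⟨(HomologicalComplex.homologyMap (mappingCone.inr φ) n).hom, δ.hom,
    (ModuleCat.mono_iff_injective _).mp hmono, (ModuleCat.epi_iff_surjective _).mp hepi, ?_⟩
  exact (ShortComplex.ShortExact.moduleCat_exact_iff_function_exact _).mp h3

end Cone

section Killed

variable (M : ModuleCat.{u} A)

lemma smul_id_koszulCx_eq_zero (k : A) (hk : ∀ m : M, k • m = 0) (l : List A) :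
    k • 𝟙 (koszulCx M l) = 0 := by
  have h0 : k • 𝟙 M = 0 := by
    ext m
    exact hk m
  rw [← kMap_id, ← kMap_smul, h0, kMap_zero]

lemma homologyMap_smul_id_eq_zero_of_killed (k : A) (hk : ∀ m : M, k • m = 0) (l : List A)
    (i : ℤ) : HomologicalComplex.homologyMap (k • 𝟙 (koszulCx M l)) i = 0 := by
  rw [smul_id_koszulCx_eq_zero M k hk l, HomologicalComplex.homologyMap_zero]

lemma smul_homology_eq_zero_of_homologyMap (k : A) (K : CochainComplex (ModuleCat.{u} A) ℤ)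
    (i : ℤ) (h : HomologicalComplex.homologyMap (k • 𝟙 K) i = 0) (e : K.homology i) :
    k • e = 0 := by
  rw [homologyMap_smul', HomologicalComplex.homologyMap_id] at h
  have := congrArg (fun φ : K.homology i ⟶ K.homology i => φ.hom e) h
  exact this

/-- Koszul homology of `M` along `l` is killed by `J ⊔ (g)` if `J` kills `M` and `g ⊆ l`. -/
lemma smul_homology_koszulCx_eq_zero (J : Ideal A) (hJ : ∀ k ∈ J, ∀ m : M, k • m = 0)
    (g l : List A) (hgl : ∀ x ∈ g, x ∈ l) (i : ℤ) (k : A) (hk : k ∈ J ⊔ Ideal.ofList g)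
    (e : (koszulCx M l).homology i) : k • e = 0 := by
  obtain ⟨k₁, hk₁, k₂, hk₂, rfl⟩ := Submodule.mem_sup.mp hk
  rw [add_smul]
  have h1 : k₁ • e = 0 :=
    smul_homology_eq_zero_of_homologyMap k₁ _ i
      (homologyMap_smul_id_eq_zero_of_killed M k₁ (hJ k₁ hk₁) l i) e
  have hk₂' : k₂ ∈ Ideal.span {x | x ∈ l} :=
    Ideal.span_mono (fun x hx => hgl x hx) hk₂
  have h2 : k₂ • e = 0 :=
    smul_homology_eq_zero_of_homologyMap k₂ _ i (homologyMap_smul_eq_zero M l k₂ hk₂' i) e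
  rw [h1, h2, add_zero]

end Killed

section Main

variable (M : ModuleCat.{u} A) (J 𝔎 : Ideal A) (g : List A)

/-- **Koszul homology with zero-acting elements.** -/
theorem nonempty_homology_equiv (hJ : ∀ k ∈ J, ∀ m : M, k • m = 0)
    (h𝔎 : 𝔎 = J ⊔ Ideal.ofList g)
    (base : ∀ i : ℤ, Nonempty ((koszulCx M g).homology i ≃ₗ[A] (Fin (cb 0 i) → A ⧸ 𝔎))) :
    ∀ (l' : List A), (∀ x ∈ l', x ∈ J) → ∀ i : ℤ,
      Nonempty ((koszulCx M (l' ++ g)).homology i ≃ₗ[A] (Fin (cb l'.length i) → A ⧸ 𝔎))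
  | [], _, i => base i
  | x :: l', hl', i => by
    have hx : x ∈ J := hl' x (List.mem_cons_self ..)
    have ih := nonempty_homology_equiv hJ h𝔎 base l'
      (fun y hy => hl' y (List.mem_cons_of_mem _ hy))
    obtain ⟨eX⟩ := ih i
    obtain ⟨eY⟩ := ih (i + 1)
    obtain ⟨f, g', hf, hg', hfg'⟩ := cone_ses (x • 𝟙 (koszulCx M (l' ++ g)))
      (fun n => homologyMap_smul_id_eq_zero_of_killed M x (hJ x hx) (l' ++ g) n) i
    have hE : ∀ k ∈ 𝔎, ∀ e : (koszulCx M (x :: l' ++ g)).homology i, k • e = 0 := by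
      intro k hk e
      rw [h𝔎] at hk
      exact smul_homology_koszulCx_eq_zero M J hJ g (x :: l' ++ g)
        (fun y hy => by simp [hy]) i k hk e
    obtain ⟨e⟩ := nonempty_equiv_of_killed 𝔎 _ _ f g' hf hg' hfg' hE eX eY
    rw [List.length_cons, cb_succ]
    exact ⟨e⟩

end Main

end Groth.Agent.Lib.Helper16.KosTor
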