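import Mathlib
import Groth.Agent.Lib.Helper16.KosTor.Flat
import Groth.Agent.Lib.Helper16.KosTor.ZeroCone
import Groth.Agent.Lib.Helper10.KoszulPerm

/-!
# `Tor_n(A/(f,g), A/(f,h)) ≃ (A/(f,g,h))^(|f| choose n)` for Koszul-regular `f++g`, `f++h`,
`f++g++h` (helper16)
-/

set_option autoImplicit false
universe u

namespace Groth.Agent.Lib.Helper16.KosTor

open CategoryTheory CategoryTheory.Limits CochainComplex HomComplex CohIII
open Groth.Agent.Lib.Helper12.Koszul Groth.Agent.Lib.Helper12.KoszulTop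
  Groth.Agent.Lib.Helper10.KoszulComp Groth.Agent.Lib.Helper10.KoszulPerm

variable {A : Type u} [CommRing A]

/-- `(A/J)/(I·(A/J)) ≃ A/(J ⊔ I)` -/
theorem nonempty_quot_smul_top_equiv (J I : Ideal A) :
    Nonempty (((A ⧸ J) ⧸ (I • (⊤ : Submodule A (A ⧸ J)))) ≃ₗ[A] (A ⧸ (J ⊔ I))) := by
  have h : I • (⊤ : Submodule A (A ⧸ J)) = Submodule.map (Submodule.mkQ J) I := by
    have h1 : (⊤ : Submodule A (A ⧸ J)) = Submodule.map (Submodule.mkQ J) ⊤ := by
      rw [Submodule.map_top, Submodule.range_mkQ]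
    rw [h1, ← Submodule.map_smul'']
    congr 1
    simp
  exact ⟨Submodule.quotEquivOfEq _ _ h ≪≫ₗ Submodule.quotientQuotientEquivQuotientSup J I⟩

section Base

variable (f g h : List A)

/-- the Koszul homology of `A/(f,h)` along `g` vanishes outside degree `0`. -/
theorem isZero_homology_koszulCx_quot (hfh : LCI.IsKoszulRegularSeq A (f ++ h))
    (hfgh : LCI.IsKoszulRegularSeq A (f ++ g ++ h)) (i : ℤ) (hi : i ≠ 0) :
    IsZero ((koszulCx (ModuleCat.of A (A ⧸ Ideal.ofList (f ++ h))) g).homology i) := by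
  have hperm : (f ++ g ++ h).Perm (g ++ (f ++ h)) := by
    rw [← List.append_assoc]
    exact List.Perm.append_right h List.perm_append_comm
  have hKR := isKoszulRegularSeq_of_perm hperm hfgh
  obtain ⟨M', ε, hε, ⟨e⟩⟩ := exists_quasiIso_koszul (f ++ h) hfh
  have := quasiIso_CCmap ε g
  have h0 : IsZero ((CC g (Koszul.koszul A (f ++ h))).homology i) :=
    isZero_homology_of_eq (koszul_append g (f ++ h)).symm i (hKR i hi)
  have h1 : IsZero ((CC g ((HomologicalComplex.single (ModuleCat.{u} A)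
      (ComplexShape.up ℤ) 0).obj M')).homology i) :=
    h0.of_iso (asIso (HomologicalComplex.homologyMap (CCmap ε g) i)).symm
  have h2 : IsZero ((koszulCx M' g).homology i) :=
    isZero_homology_of_eq (koszulCx_eq_CC M' g) i h1
  exact h2.of_iso ((HomologicalComplex.homologyFunctor _ _ i).mapIso
    (kIso' e.toModuleIso g)).symm

/-- base case of the induction. -/
theorem nonempty_base_equiv (hfh : LCI.IsKoszulRegularSeq A (f ++ h))
    (hfgh : LCI.IsKoszulRegularSeq A (f ++ g ++ h)) (i : ℤ) :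
    Nonempty ((koszulCx (ModuleCat.of A (A ⧸ Ideal.ofList (f ++ h))) g).homology i ≃ₗ[A]
      (Fin (cb 0 i) → A ⧸ (Ideal.ofList (f ++ h) ⊔ Ideal.ofList g))) := by
  by_cases hi : i = 0
  · subst hi
    obtain ⟨e1⟩ := nonempty_top_equiv g (A ⧸ Ideal.ofList (f ++ h))
    obtain ⟨e2⟩ := nonempty_quot_smul_top_equiv (Ideal.ofList (f ++ h)) (Ideal.ofList g)
    rw [cb_zero_zero]
    exact ⟨e1 ≪≫ₗ e2 ≪≫ₗ (LinearEquiv.funUnique (Fin 1) A _).symm⟩
  · have hz := isZero_homology_koszulCx_quot f g h hfh hfgh i hi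
    have : Subsingleton ((koszulCx (ModuleCat.of A (A ⧸ Ideal.ofList (f ++ h))) g).homology i) :=
      ModuleCat.subsingleton_of_isZero hz
    rw [cb_zero i hi]
    exact ⟨LinearEquiv.ofSubsingleton _ _⟩

end Base

/-- **`Tor_n(A/(f,g), A/(f,h))` is free of rank `|f| choose n` over `A/(f,g,h)`.** -/
theorem nonempty_tor_equiv (f g h : List A) (hfg : LCI.IsKoszulRegularSeq A (f ++ g))
    (hfh : LCI.IsKoszulRegularSeq A (f ++ h))
    (hfgh : LCI.IsKoszulRegularSeq A (f ++ g ++ h)) (n : ℕ) :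
    Nonempty (((Tor (ModuleCat.{u} A) n).obj (ModuleCat.of A (A ⧸ Ideal.ofList (f ++ g)))).obj
        (ModuleCat.of A (A ⧸ Ideal.ofList (f ++ h))) ≃ₗ[A]
      (Fin (f.length.choose n) → A ⧸ (Ideal.ofList (f ++ h) ⊔ Ideal.ofList g))) := by
  obtain ⟨e⟩ := nonempty_iso_tor (f ++ g) hfg n (ModuleCat.of A (A ⧸ Ideal.ofList (f ++ h)))
  have hJ : ∀ k ∈ Ideal.ofList (f ++ h), ∀ m : (ModuleCat.of A (A ⧸ Ideal.ofList (f ++ h))),
      k • m = 0 := by
    intro k hk m
    obtain ⟨a, rfl⟩ := Ideal.Quotient.mk_surjective m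
    change Ideal.Quotient.mk _ (k * a) = 0
    exact Ideal.Quotient.eq_zero_iff_mem.mpr (Ideal.mul_mem_right _ _ hk)
  obtain ⟨e'⟩ := nonempty_homology_equiv (ModuleCat.of A (A ⧸ Ideal.ofList (f ++ h)))
    (Ideal.ofList (f ++ h)) (Ideal.ofList (f ++ h) ⊔ Ideal.ofList g) g hJ rfl
    (nonempty_base_equiv f g h hfh hfgh) f
    (fun x hx => Ideal.subset_span (List.mem_append_left h hx)) (-(n : ℤ))
  exact ⟨e.symm.toLinearEquiv ≪≫ₗ e' ≪≫ₗ
    LinearEquiv.funCongrLeft A _ (finCongr (cb_neg f.length n).symm)⟩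

end Groth.Agent.Lib.Helper16.KosTor
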