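import Mathlib

/-!
# Exterior powers over `A` of a free module over a quotient `A ⧸ 𝔎` (helper16)

For `i ≥ 1`: `⋀[A]^i (Fin r → A ⧸ 𝔎) ≃ₗ[A] (Fin (r.choose i) → A ⧸ 𝔎)`.
-/

set_option autoImplicit false
universe u

namespace Groth.Agent.Lib.Helper16.KosTor

open Module Set Set.powersetCard exteriorPower

variable {A : Type u} [CommRing A] (𝔎 : Ideal A) (r i : ℕ)

/-- the standard basis of `(A ⧸ 𝔎)^r` over `A ⧸ 𝔎` -/
noncomputable abbrev stdB : Basis (Fin r) (A ⧸ 𝔎) (Fin r → A ⧸ 𝔎) := Pi.basisFun (A ⧸ 𝔎) (Fin r)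

/-- the minor functional attached to `T`, as an `A`-alternating map. -/
noncomputable def minorAlt (T : powersetCard (Fin r) i) :
    (Fin r → A ⧸ 𝔎) [⋀^Fin i]→ₗ[A] (A ⧸ 𝔎) :=
  { MultilinearMap.restrictScalars A
      (((ιMultiDual (A ⧸ 𝔎) i (stdB 𝔎 r) T).compAlternatingMap
        (ιMulti (A ⧸ 𝔎) i)) : MultilinearMap (A ⧸ 𝔎) (fun _ : Fin i => Fin r → A ⧸ 𝔎) (A ⧸ 𝔎)) with
    map_eq_zero_of_eq' := fun v _ _ h hjk =>
      ((ιMultiDual (A ⧸ 𝔎) i (stdB 𝔎 r) T).compAlternatingMap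
        (ιMulti (A ⧸ 𝔎) i)).map_eq_zero_of_eq v h hjk }

lemma minorAlt_apply (T : powersetCard (Fin r) i) (v : Fin i → (Fin r → A ⧸ 𝔎)) :
    minorAlt 𝔎 r i T v = ιMultiDual (A ⧸ 𝔎) i (stdB 𝔎 r) T (ιMulti (A ⧸ 𝔎) i v) := rfl

/-- the minor functional attached to `T`, as an `A`-linear form on `⋀[A]^i`. -/
noncomputable def minorForm (T : powersetCard (Fin r) i) :
    ⋀[A]^i (Fin r → A ⧸ 𝔎) →ₗ[A] (A ⧸ 𝔎) :=
  alternatingMapLinearEquiv (minorAlt 𝔎 r i T)

lemma minorForm_ιMulti (T : powersetCard (Fin r) i) (v : Fin i → (Fin r → A ⧸ 𝔎)) :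
    minorForm 𝔎 r i T (ιMulti A i v) =
      ιMultiDual (A ⧸ 𝔎) i (stdB 𝔎 r) T (ιMulti (A ⧸ 𝔎) i v) := by
  rw [minorForm, alternatingMapLinearEquiv_apply_ιMulti, minorAlt_apply]

lemma minorForm_family (T S : powersetCard (Fin r) i) :
    minorForm 𝔎 r i T (ιMulti_family A i (stdB 𝔎 r) S) = if S = T then 1 else 0 := by
  rw [ιMulti_family, minorForm_ιMulti]
  split_ifs with h
  · subst h
    exact ιMultiDual_apply_diag (A ⧸ 𝔎) i (stdB 𝔎 r) S
  · exact ιMultiDual_apply_nondiag (A ⧸ 𝔎) i (stdB 𝔎 r) T S (Ne.symm h)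

/-- all minors -/
noncomputable def minors :
    ⋀[A]^i (Fin r → A ⧸ 𝔎) →ₗ[A] (powersetCard (Fin r) i → A ⧸ 𝔎) :=
  LinearMap.pi (fun T => minorForm 𝔎 r i T)

lemma span_stdB : Submodule.span A (Set.range (stdB 𝔎 r)) = ⊤ := by
  rw [eq_top_iff]
  rintro v -
  have hv : v = ∑ j, (Quotient.out (v j) : A) • (stdB 𝔎 r j) := by
    ext k
    rw [Finset.sum_apply]
    simp only [Pi.basisFun_apply, Pi.smul_apply]
    rw [Finset.sum_eq_single k]
    · rw [Pi.single_eq_same]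
      change v k = Ideal.Quotient.mk 𝔎 (Quotient.out (v k)) * 1
      rw [mul_one]
      exact (Ideal.Quotient.mk_out (v k)).symm
    · intro j _ hj
      rw [Pi.single_eq_of_ne (Ne.symm hj), smul_zero]
    · intro h
      exact absurd (Finset.mem_univ k) h
  rw [hv]
  exact Submodule.sum_mem _ fun j _ => Submodule.smul_mem _ _ (Submodule.subset_span ⟨j, rfl⟩)

lemma smul_family_eq_zero (hi : 1 ≤ i) (a : A) (ha : a ∈ 𝔎) (S : powersetCard (Fin r) i) :
    a • ιMulti_family A i (stdB 𝔎 r) S = 0 := by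
  obtain ⟨k, rfl⟩ : ∃ k, i = k + 1 := ⟨i - 1, by omega⟩
  rw [ιMulti_family]
  set v := (stdB 𝔎 r) ∘ (ofFinEmbEquiv.symm S) with hv
  have h1 : a • ιMulti A (k + 1) v = ιMulti A (k + 1) (Function.update v 0 (a • v 0)) := by
    rw [AlternatingMap.map_update_smul, Function.update_eq_self]
  have h2 : a • v 0 = 0 := by
    ext j
    change Ideal.Quotient.mk 𝔎 a * v 0 j = 0
    rw [Ideal.Quotient.eq_zero_iff_mem.mpr ha, zero_mul]
  rw [h1, h2]
  exact AlternatingMap.map_update_zero _ _ _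

lemma minors_sum (a : powersetCard (Fin r) i → A) (T : powersetCard (Fin r) i) :
    minors 𝔎 r i (∑ S, a S • ιMulti_family A i (stdB 𝔎 r) S) T = Ideal.Quotient.mk 𝔎 (a T) := by
  classical
  rw [map_sum, Finset.sum_apply]
  simp only [map_smul, Pi.smul_apply]
  change ∑ S, a S • minorForm 𝔎 r i T (ιMulti_family A i (stdB 𝔎 r) S) = _
  simp only [minorForm_family]
  rw [Finset.sum_eq_single T]
  · rw [if_pos rfl]
    change Ideal.Quotient.mk 𝔎 (a T) * 1 = _
    rw [mul_one]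
  · intro S _ hS
    rw [if_neg hS, smul_zero]
  · intro h
    exact absurd (Finset.mem_univ T) h

theorem minors_bijective (hi : 1 ≤ i) : Function.Bijective (minors 𝔎 r i) := by
  constructor
  · rw [← LinearMap.ker_eq_bot, eq_bot_iff]
    intro x hx
    have hx' : x ∈ Submodule.span A (Set.range (ιMulti_family A i (stdB 𝔎 r))) := by
      rw [ιMulti_family_span_of_span A (span_stdB 𝔎 r)]
      trivial
    obtain ⟨a, rfl⟩ := (Submodule.mem_span_range_iff_exists_fun A).mp hx'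
    rw [LinearMap.mem_ker] at hx
    rw [Submodule.mem_bot]
    refine Finset.sum_eq_zero fun S _ => ?_
    apply smul_family_eq_zero 𝔎 r i hi
    have := congrFun hx S
    rw [minors_sum] at this
    exact Ideal.Quotient.eq_zero_iff_mem.mp this
  · intro c
    refine ⟨∑ S, (Quotient.out (c S) : A) • ιMulti_family A i (stdB 𝔎 r) S, ?_⟩
    ext T
    rw [minors_sum]
    exact Ideal.Quotient.mk_out (c T)

/-- `⋀[A]^i ((A ⧸ 𝔎)^r) ≃ (A ⧸ 𝔎)^(r choose i)` for `i ≥ 1`. -/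
theorem nonempty_exteriorPower_equiv (hi : 1 ≤ i) :
    Nonempty (⋀[A]^i (Fin r → A ⧸ 𝔎) ≃ₗ[A] (Fin (r.choose i) → A ⧸ 𝔎)) := by
  have hc : Nat.card (powersetCard (Fin r) i) = r.choose i := by
    rw [powersetCard.card, Nat.card_eq_fintype_card, Fintype.card_fin]
  have e : powersetCard (Fin r) i ≃ Fin (r.choose i) := Finite.equivFinOfCardEq hc
  exact ⟨(LinearEquiv.ofBijective (minors 𝔎 r i) (minors_bijective 𝔎 r i hi)).trans
    (LinearEquiv.funCongrLeft A (A ⧸ 𝔎) e.symm)⟩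

/-- exterior powers of linearly equivalent modules -/
noncomputable def extPowCongr {M N : Type*} [AddCommGroup M] [Module A M] [AddCommGroup N]
    [Module A N] (e : M ≃ₗ[A] N) : ⋀[A]^i M ≃ₗ[A] ⋀[A]^i N :=
  LinearEquiv.ofLinearMap (exteriorPower.map i e.toLinearMap) (exteriorPower.map i e.symm.toLinearMap)
    (by rw [← exteriorPower.map_comp, LinearEquiv.comp_symm, exteriorPower.map_id])
    (by rw [← exteriorPower.map_comp, LinearEquiv.symm_comp, exteriorPower.map_id])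

end Groth.Agent.Lib.Helper16.KosTor
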