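import Mathlib
import Groth.Agent.Lib.Helper73.TorFirstVar
import Groth.Agent.S6314

/-!
# Vanishing of `Tor_i(X, N)`, `i ≥ 1`, in the FIRST variable: closure properties (helper16)

`TorVanish N X` : `Tor_{i+1}^A(X, N) = 0` for all `i` (Mathlib's `Tor`, derived in the second
variable).  Closed under linear equivalences, extensions, kernels of surjections onto modules with
`TorVanish`, finite products; holds for flat modules.  All stated with plain linear maps.
-/

set_option autoImplicit false
universe u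

namespace Groth.Agent.Lib.Helper16.KosTor

open CategoryTheory CategoryTheory.Limits
open Groth.Agent.Lib.Helper73

variable {A : Type u} [CommRing A] (N : ModuleCat.{u} A)

/-- `Tor_i(X, N) = 0` for all `i ≥ 1`. -/
def TorVanish (X : Type u) [AddCommGroup X] [Module A X] : Prop :=
  ∀ i : ℕ, IsZero (((Tor (ModuleCat.{u} A) (i + 1)).obj (ModuleCat.of A X)).obj N)

variable {N}
variable {X Y X₁ X₂ X₃ : Type u} [AddCommGroup X] [Module A X] [AddCommGroup Y] [Module A Y]
  [AddCommGroup X₁] [Module A X₁] [AddCommGroup X₂] [Module A X₂] [AddCommGroup X₃] [Module A X₃]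

lemma TorVanish.of_linearEquiv (e : X ≃ₗ[A] Y) (h : TorVanish N X) : TorVanish N Y := fun i =>
  IsZero.of_iso (h i) ((((Tor (ModuleCat.{u} A) (i + 1)).mapIso e.toModuleIso).app N).symm)

variable (N X) in
lemma torVanish_of_flat [Module.Flat A X] : TorVanish N X := fun i =>
  Groth.Agent.S6314.result A X N (i + 1) (Nat.succ_pos i)

variable (N X) in
lemma torVanish_of_subsingleton [Subsingleton X] : TorVanish N X :=
  torVanish_of_flat N X

/-- the short exact short complex attached to an exact pair of linear maps -/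
lemma shortExact_mk (f : X₁ →ₗ[A] X₂) (g : X₂ →ₗ[A] X₃) (hf : Function.Injective f)
    (hg : Function.Surjective g) (hfg : Function.Exact f g) :
    (ShortComplex.mk (ModuleCat.ofHom f) (ModuleCat.ofHom g)
      (by ext x; exact hfg.apply_apply_eq_zero x)).ShortExact :=
  ModuleCat.shortComplex_shortExact _ hfg hf hg

/-- extensions -/
lemma TorVanish.mid (f : X₁ →ₗ[A] X₂) (g : X₂ →ₗ[A] X₃) (hf : Function.Injective f)
    (hg : Function.Surjective g) (hfg : Function.Exact f g)
    (h₁ : TorVanish N X₁) (h₃ : TorVanish N X₃) : TorVanish N X₂ := by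
  intro i
  obtain ⟨⟨w, hw⟩, -⟩ := tor_les_first (shortExact_mk f g hf hg hfg) N (i + 1)
  exact hw.isZero_of_both_zeros ((h₁ i).eq_of_src _ _) ((h₃ i).eq_of_tgt _ _)

/-- kernels -/
lemma TorVanish.left (f : X₁ →ₗ[A] X₂) (g : X₂ →ₗ[A] X₃) (hf : Function.Injective f)
    (hg : Function.Surjective g) (hfg : Function.Exact f g)
    (h₂ : TorVanish N X₂) (h₃ : TorVanish N X₃) : TorVanish N X₁ := by
  intro i
  obtain ⟨-, δ, w₁, w₂, -, hw⟩ := tor_les_first (shortExact_mk f g hf hg hfg) N (i + 1)
  exact hw.isZero_of_both_zeros ((h₃ (i + 1)).eq_of_src _ _) ((h₂ i).eq_of_tgt _ _)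

lemma TorVanish.prod (hX : TorVanish N X) (hY : TorVanish N Y) : TorVanish N (X × Y) := by
  refine TorVanish.mid (LinearMap.inl A X Y) (LinearMap.snd A X Y) LinearMap.inl_injective
    LinearMap.snd_surjective ?_ hX hY
  intro z
  constructor
  · intro hz
    exact ⟨z.1, Prod.ext rfl (by simpa using hz.symm)⟩
  · rintro ⟨x, rfl⟩
    simp

lemma TorVanish.pi_fin (hX : TorVanish N X) : ∀ m : ℕ, TorVanish N (Fin m → X)
  | 0 => torVanish_of_subsingleton N _
  | m + 1 =>
    TorVanish.of_linearEquiv (Fin.consLinearEquiv A (fun _ : Fin (m + 1) => X))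
      (TorVanish.prod hX (TorVanish.pi_fin hX m))

lemma TorVanish.pi (hX : TorVanish N X) (ι : Type) [Finite ι] : TorVanish N (ι → X) := by
  obtain ⟨m, ⟨e⟩⟩ := Finite.exists_equiv_fin ι
  exact TorVanish.of_linearEquiv (LinearEquiv.funCongrLeft A X e) (TorVanish.pi_fin hX m)

end Groth.Agent.Lib.Helper16.KosTor
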