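import Mathlib
import Groth.Agent.Lib.Helper16.KosTor.Flat
import Groth.Agent.Lib.Helper16.KosTor.Vanish
import Groth.Agent.Lib.Helper47.QuasiRegularBaseChange
import Groth.Agent.Lib.Helper47.H1RegularQuasiRegular
import Groth.Agent.Lib.Helper10.KoszulH1
import Groth.Agent.Lib.Helper10.KoszulMinGen

/-!
# `Tor_i(Jⁿ, N) = 0` and `Tor_i(Jⁿ/Jⁿ⁺¹, N) = 0` for a quasi-regular ideal `J` with
`Tor_i(A/J, N) = 0` (helper16)
-/

set_option autoImplicit false
universe u

namespace Groth.Agent.Lib.Helper16.KosTor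

open CategoryTheory CategoryTheory.Limits
open Groth.Agent.Lib.Helper47

variable {A : Type u} [CommRing A] {N : ModuleCat.{u} A}

section QuasiRegular

variable {r : ℕ} (f : Fin r → A)

/-- `Tor_i(A/Jⁿ, N) = 0` (`i ≥ 1`) for `J` generated by a quasi-regular sequence with
`Tor_i(A/J, N) = 0`. -/
theorem torVanish_quot_pow (hq : CAlgX.IsQuasiRegular f)
    (h1 : TorVanish N (A ⧸ Ideal.span (Set.range f))) :
    ∀ n : ℕ, TorVanish N (A ⧸ Ideal.span (Set.range f) ^ n)
  | 0 => by
    have : Subsingleton (A ⧸ Ideal.span (Set.range f) ^ 0) := by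
      rw [pow_zero, Ideal.one_eq_top]
      exact Submodule.Quotient.subsingleton_iff.mpr rfl
    exact torVanish_of_subsingleton N _
  | n + 1 => by
    classical
    have e1 : ((expos r n → A) ⧸ piJ f n) ≃ₗ[A] (expos r n → A ⧸ Ideal.span (Set.range f)) :=
      Submodule.quotientPi (fun _ => Ideal.span (Set.range f))
    exact TorVanish.mid (grIncl f hq n) (grProj f n) (grIncl_injective f hq n)
      (grProj_surjective f n) (grIncl_grProj_exact f hq n)
      (TorVanish.of_linearEquiv e1.symm (h1.pi _)) (torVanish_quot_pow hq h1 n)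

end QuasiRegular

section Ideal

variable (J : Ideal A)

/-- `Tor_i(A/I, N) = 0` for `i ≥ 1` implies `Tor_i(I, N) = 0` for `i ≥ 1`. -/
theorem torVanish_ideal (I : Ideal A) (h : TorVanish N (A ⧸ I)) : TorVanish N I := by
  refine TorVanish.left (Submodule.subtype I) (Submodule.mkQ I) (Submodule.injective_subtype I)
    (Submodule.mkQ_surjective I) ?_ (torVanish_of_flat N A) h
  intro x
  rw [Submodule.mkQ_apply, Submodule.Quotient.mk_eq_zero]
  simp

/-- the inclusion `Jⁿ/Jⁿ⁺¹ → A/Jⁿ⁺¹` -/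
noncomputable def grToQuot (n : ℕ) :
    (↥(J ^ n) ⧸ Submodule.comap (J ^ n).subtype (J ^ (n + 1))) →ₗ[A] (A ⧸ J ^ (n + 1)) :=
  Submodule.liftQ _ ((Submodule.mkQ (J ^ (n + 1))).comp (J ^ n).subtype) (by
    intro x hx
    rw [LinearMap.mem_ker, LinearMap.comp_apply, Submodule.mkQ_apply,
      Submodule.Quotient.mk_eq_zero]
    exact hx)

lemma grToQuot_mk (n : ℕ) (x : ↥(J ^ n)) :
    grToQuot J n (Submodule.Quotient.mk x) = Submodule.Quotient.mk (x : A) := rfl

lemma grToQuot_injective (n : ℕ) : Function.Injective (grToQuot J n) := by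
  rw [← LinearMap.ker_eq_bot]
  apply Submodule.ker_liftQ_eq_bot
  intro x hx
  rw [LinearMap.mem_ker, LinearMap.comp_apply, Submodule.mkQ_apply,
    Submodule.Quotient.mk_eq_zero] at hx
  exact hx

/-- `A/Jⁿ⁺¹ → A/Jⁿ` -/
noncomputable def quotProj (n : ℕ) : (A ⧸ J ^ (n + 1)) →ₗ[A] (A ⧸ J ^ n) :=
  Submodule.mapQ _ _ LinearMap.id
    (by simpa using Ideal.pow_le_pow_right (I := J) (Nat.le_succ n))

lemma quotProj_mk (n : ℕ) (a : A) :
    quotProj J n (Submodule.Quotient.mk a) = Submodule.Quotient.mk a := rfl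

lemma quotProj_surjective (n : ℕ) : Function.Surjective (quotProj J n) := by
  intro q
  obtain ⟨y, rfl⟩ := Submodule.Quotient.mk_surjective _ q
  exact ⟨Submodule.Quotient.mk y, rfl⟩

lemma grToQuot_quotProj_exact (n : ℕ) : Function.Exact (grToQuot J n) (quotProj J n) := by
  intro q
  obtain ⟨b, rfl⟩ := Submodule.Quotient.mk_surjective _ q
  rw [quotProj_mk, Submodule.Quotient.mk_eq_zero]
  constructor
  · intro hb
    exact ⟨Submodule.Quotient.mk ⟨b, hb⟩, rfl⟩
  · rintro ⟨g, hg⟩
    obtain ⟨c, rfl⟩ := Submodule.Quotient.mk_surjective _ g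
    rw [grToQuot_mk] at hg
    have h3 : (c : A) - b ∈ J ^ (n + 1) := by
      rw [← Submodule.Quotient.mk_eq_zero, Submodule.Quotient.mk_sub, hg, sub_self]
    have h4 : b = (c : A) - ((c : A) - b) := by ring
    rw [h4]
    exact Submodule.sub_mem _ c.2 (Ideal.pow_le_pow_right (Nat.le_succ n) h3)

/-- `Tor_i(Jⁿ/Jⁿ⁺¹, N) = 0` for `i ≥ 1` if `Tor_i(A/Jᵐ, N) = 0` for `i ≥ 1` and all `m`. -/
theorem torVanish_gr (h : ∀ m : ℕ, TorVanish N (A ⧸ J ^ m)) (n : ℕ) :
    TorVanish N (↥(J ^ n) ⧸ Submodule.comap (J ^ n).subtype (J ^ (n + 1))) :=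
  TorVanish.left (grToQuot J n) (quotProj J n) (grToQuot_injective J n) (quotProj_surjective J n)
    (grToQuot_quotProj_exact J n) (h (n + 1)) (h n)

end Ideal

section Main

open CohIII Groth.Agent.Lib.Helper12.Koszul

variable {A' : Type u} [CommRing A'] [Algebra A A']

/-- `A'` with the `Algebra` module structure is `A'` with restricted scalars. -/
noncomputable def ofEquivRestrict :
    A' ≃ₗ[A] ((ModuleCat.restrictScalars.{u} (algebraMap A A')).obj (ModuleCat.of A' A')) :=
  { toFun := fun x => x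
    invFun := fun x => x
    map_add' := fun _ _ => rfl
    map_smul' := fun a x => Algebra.smul_def a x
    left_inv := fun _ => rfl
    right_inv := fun _ => rfl }

/-- `A'` with the `Algebra` module structure is `A'` with restricted scalars. -/
noncomputable def ofIsoRestrict :
    ModuleCat.of A A' ≅
      (ModuleCat.restrictScalars.{u} (algebraMap A A')).obj (ModuleCat.of A' A') :=
  LinearEquiv.toModuleIso
    (X₁ := ModuleCat.of A A')
    (X₂ := (ModuleCat.restrictScalars.{u} (algebraMap A A')).obj (ModuleCat.of A' A'))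
    ofEquivRestrict

/-- `Tor_i^A(A/(l), A') = 0` for `i ≥ 1` when `l` and its image in `A'` are Koszul-regular. -/
theorem torVanish_quot_of_isKoszulRegularSeq (l : List A) (hl : LCI.IsKoszulRegularSeq A l)
    (hl' : LCI.IsKoszulRegularSeq A' (l.map (algebraMap A A'))) :
    TorVanish (ModuleCat.of A A') (A ⧸ Ideal.ofList l) := by
  intro i
  obtain ⟨e⟩ := nonempty_iso_tor l hl (i + 1) (ModuleCat.of A A')
  refine IsZero.of_iso ?_ e.symm
  have h0 := Groth.Agent.Lib.Helper10.KoszulComp.isZero_homology_koszulCx_restrict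
    (algebraMap A A') l (-((i + 1 : ℕ) : ℤ)) (hl' _ (by push_cast; omega))
  exact h0.of_iso ((HomologicalComplex.homologyFunctor _ _ _).mapIso
    (Groth.Agent.Lib.Helper10.KoszulComp.kIso' ofIsoRestrict l))

/-- **Main theorem**: for `l` Koszul-regular in `A` with Koszul-regular image in `A'`, and
`J = (l)`: `Tor_i^A(Jⁿ, A') = 0` and `Tor_i^A(Jⁿ/Jⁿ⁺¹, A') = 0` for `i ≥ 1`. -/
theorem torVanish_pow_and_gr (l : List A) (hl : LCI.IsKoszulRegularSeq A l)
    (hl' : LCI.IsKoszulRegularSeq A' (l.map (algebraMap A A'))) (n : ℕ) :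
    TorVanish (ModuleCat.of A A') ↥(Ideal.ofList l ^ n) ∧
    TorVanish (ModuleCat.of A A') (↥(Ideal.ofList l ^ n) ⧸
      Submodule.comap (Ideal.ofList l ^ n).subtype (Ideal.ofList l ^ (n + 1))) := by
  have hq : CAlgX.IsQuasiRegular l.get :=
    isQuasiRegular_of_isH1Regular _
      (Groth.Agent.Lib.Helper10.KoszulH1.isH1Regular_of_isKoszulRegularSeq l hl)
  have h1 := torVanish_quot_of_isKoszulRegularSeq l hl hl'
  have hJ : Ideal.span (Set.range l.get) = Ideal.ofList l :=
    Groth.Agent.Lib.Helper10.KoszulMinGen.span_range_get l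
  have hpow : ∀ m : ℕ, TorVanish (ModuleCat.of A A') (A ⧸ Ideal.ofList l ^ m) := by
    intro m
    have := torVanish_quot_pow (N := ModuleCat.of A A') l.get hq (by rw [hJ]; exact h1) m
    rwa [hJ] at this
  exact ⟨torVanish_ideal _ (hpow n), torVanish_gr _ hpow n⟩

end Main

end Groth.Agent.Lib.Helper16.KosTor
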